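import Mathlib
import Groth.Prelude.Def_AlgSt
import Groth.Prelude.Def_FibCat2
import Groth.Prelude.Def_W4c2modmodulilectNerve

set_option autoImplicit false

universe w v₁ v₂ v₃ u₁ u₂ u₃

open CategoryTheory CategoryTheory.Functor

namespace SectRestrLib

variable {C : Type u₁} [Category.{v₁} C] {D : Type u₂} [Category.{v₂} D] {F : Type u₃} [Category.{v₃} F]
  (φ : C ⥤ D) (p : F ⥤ D) [FibCat.IsFibGrpd p]

instance isoFiber (Y : D) {a b : p.Fiber Y} (f : a ⟶ b) : IsIso f := by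
  haveI := f.2
  haveI := FibCat.IsFibGrpd.isStronglyCartesian (p := p) f.1
  haveI : IsIso (p.map f.1) := by
    rw [IsHomLift.fac' p (𝟙 Y) f.1]; infer_instance
  haveI : IsIso f.1 := IsStronglyCartesian.isIso_of_base_isIso p (p.map f.1) f.1
  exact ⟨⟨inv f.1, inferInstance⟩, Fiber.hom_ext (IsIso.hom_inv_id f.1), Fiber.hom_ext (IsIso.inv_hom_id f.1)⟩

theorem stronglyCartesian {R S : D} {a b : F} (h : R ⟶ S) (m : a ⟶ b) [hm : p.IsHomLift h m] :
    p.IsStronglyCartesian h m := by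
  obtain rfl := (IsHomLift.domain_eq p h m)
  obtain rfl := (IsHomLift.codomain_eq p h m)
  rw [IsHomLift.eq_of_isHomLift p h m]
  exact FibCat.IsFibGrpd.isStronglyCartesian m

theorem lift_ext {R' R S : D} {a' a b : F} (h : R ⟶ S) (m : a ⟶ b) [p.IsHomLift h m] (g : R' ⟶ R)
    (x y : a' ⟶ a) [p.IsHomLift g x] [p.IsHomLift g y] (e : x ≫ m = y ≫ m) : x = y := by
  haveI := stronglyCartesian p h m
  exact IsStronglyCartesian.ext p h m g e

theorem lift_exists {R' R S : D} {a' a b : F} (h : R ⟶ S) (m : a ⟶ b) [p.IsHomLift h m] (g : R' ⟶ R)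
    (k : R' ⟶ S) (hk : k = g ≫ h) (n : a' ⟶ b) [p.IsHomLift k n] :
    ∃ x : a' ⟶ a, p.IsHomLift g x ∧ x ≫ m = n := by
  haveI := stronglyCartesian p h m
  exact ⟨IsStronglyCartesian.map p h m hk n, inferInstance, IsStronglyCartesian.fac p h m hk n⟩

/-- Every groupoid valued functor on a comma category is isomorphic to a constant one. -/
def Hyp : Prop :=
  ∀ Y : D, Nonempty (StructuredArrow Y φ) ∧
    ∀ (G : Type (max u₁ u₂ u₃ v₁ v₂ v₃)) [Groupoid.{max u₁ u₂ u₃ v₁ v₂ v₃} G]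
      (K : StructuredArrow Y φ ⥤ G), ∃ a : G, Nonempty ((Functor.const _).obj a ≅ K)

variable {φ}

theorem Hyp.connected (H : Hyp.{v₁, v₂, v₃, u₁, u₂, u₃} φ) (Y : D) : IsConnected (StructuredArrow Y φ) := by
  haveI := (H Y).1
  refine IsConnected.of_any_functor_const_on_obj fun {α} K j j' => ?_
  obtain ⟨a, ⟨e⟩⟩ := (H Y).2 (Discrete (ULift.{max u₁ u₂ u₃ v₁ v₂ v₃} α))
    (K ⋙ Discrete.functor fun x => Discrete.mk (ULift.up x))
  have h1 := Discrete.eq_of_hom (e.hom.app j)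
  have h2 := Discrete.eq_of_hom (e.hom.app j')
  exact Discrete.ext (ULift.up_injective (h1.symm.trans h2))

/-- A cone over a diagram of objects over `φ` with summit over `Y`. -/
structure Cone (H : C ⥤ F) (Y : D) where
  /-- summit -/
  pt : F
  /-- the projections -/
  ε : ∀ s : StructuredArrow Y φ, pt ⟶ H.obj s.right
  hpt : p.obj pt = Y
  lift : ∀ s : StructuredArrow Y φ, p.IsHomLift s.hom (ε s)
  nat : ∀ {s t : StructuredArrow Y φ} (f : s ⟶ t), ε s ≫ H.map f.right = ε t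

variable {p}

/-- The fibre, in a large universe. -/
abbrev BigFiber (q : F ⥤ D) (Y : D) : Type (max u₁ u₂ u₃ v₁ v₂ v₃) :=
  AsSmall.{max u₁ u₂ u₃ v₁ v₂ v₃} (q.Fiber Y)

theorem exists_cone (hH : Hyp.{v₁, v₂, v₃, u₁, u₂, u₃} φ) (H : C ⥤ F) (hw : H ⋙ p = φ) (Y : D) :
    Nonempty (Cone (φ := φ) p H Y) := by
  have hobj : ∀ X, p.obj (H.obj X) = φ.obj X := fun X => Functor.congr_obj hw X
  choose y π hπ using fun s : StructuredArrow Y φ =>
    FibCat.IsFibGrpd.exists_lift (p := p) (x := H.obj s.right) (s.hom ≫ eqToHom (hobj s.right).symm)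
  have hπ' : ∀ s, p.IsHomLift s.hom (π s) := fun s =>
    (IsHomLift.lift_comp_eqToHom_iff p s.hom (π s) (hobj s.right).symm).1 (hπ s)
  have hy : ∀ s, p.obj (y s) = Y := fun s => haveI := hπ' s; IsHomLift.domain_eq p s.hom (π s)
  have hmap : ∀ {s t : StructuredArrow Y φ} (f : s ⟶ t), p.IsHomLift (φ.map f.right) (H.map f.right) :=
    fun {s t} f => by
      refine IsHomLift.of_fac p _ _ (hobj s.right) (hobj t.right) ?_
      subst hw; simp
  have hex : ∀ {s t : StructuredArrow Y φ} (f : s ⟶ t),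
      ∃ k : y s ⟶ y t, p.IsHomLift (𝟙 Y) k ∧ k ≫ π t = π s ≫ H.map f.right := by
    intro s t f
    haveI := hπ' t
    haveI := hπ' s
    haveI := hmap f
    exact lift_exists p t.hom (π t) (𝟙 Y) (s.hom ≫ φ.map f.right)
      (by rw [Category.id_comp]; exact StructuredArrow.w f) (π s ≫ H.map f.right)
  choose k hk hkπ using @hex
  let K : StructuredArrow Y φ ⥤ p.Fiber Y :=
    { obj := fun s => ⟨y s, hy s⟩
      map := fun f => ⟨k f, hk f⟩
      map_id := fun s => by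
        haveI := hπ' s
        haveI := hk (𝟙 s)
        haveI : p.IsHomLift (𝟙 Y) (𝟙 (y s)) := IsHomLift.id (hy s)
        refine Subtype.ext ?_
        show k (𝟙 s) = 𝟙 (y s)
        refine lift_ext p s.hom (π s) (𝟙 Y) (k (𝟙 s)) (𝟙 (y s)) ?_
        simp [hkπ (𝟙 s)]
      map_comp := fun {r s t} f g => by
        haveI := hπ' t
        haveI := hk f
        haveI := hk g
        haveI := hk (f ≫ g)
        refine Subtype.ext ?_
        show k (f ≫ g) = k f ≫ k g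
        refine lift_ext p t.hom (π t) (𝟙 Y) (k (f ≫ g)) (k f ≫ k g) ?_
        rw [hkπ, Category.assoc, hkπ, ← Category.assoc, hkπ]
        simp }
  haveI : ∀ {a b : BigFiber.{v₁, v₂, v₃, u₁, u₂, u₃} p Y} (f : a ⟶ b), IsIso f := fun f => by
    haveI : IsIso (AsSmall.down.map f) := inferInstance
    haveI : (AsSmall.down : BigFiber.{v₁, v₂, v₃, u₁, u₂, u₃} p Y ⥤ p.Fiber Y).ReflectsIsomorphisms :=
      inferInstanceAs AsSmall.equiv.inverse.ReflectsIsomorphisms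
    exact isIso_of_reflects_iso f (AsSmall.down : BigFiber.{v₁, v₂, v₃, u₁, u₂, u₃} p Y ⥤ p.Fiber Y)
  letI : Groupoid (BigFiber.{v₁, v₂, v₃, u₁, u₂, u₃} p Y) := Groupoid.ofIsIso fun f => inferInstance
  obtain ⟨a, ⟨e⟩⟩ := (hH Y).2 (BigFiber.{v₁, v₂, v₃, u₁, u₂, u₃} p Y) (K ⋙ AsSmall.up)
  let η : ∀ s, AsSmall.down.obj a ⟶ K.obj s :=
    fun s => AsSmall.down.map (e.hom.app s)
  have hη : ∀ {s t} (f : s ⟶ t), η s ≫ K.map f = η t := fun {s t} f => by
    have h := congrArg ULift.down (e.hom.naturality f)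
    have h' : η s ≫ K.map f = 𝟙 _ ≫ η t := h.symm
    rwa [Category.id_comp] at h'
  refine ⟨⟨(AsSmall.down.obj a).1, fun s => (η s).1 ≫ π s,
    (AsSmall.down.obj a).2, fun s => ?_, fun {s t} f => ?_⟩⟩
  · haveI := (η s).2
    haveI := hπ' s
    exact IsHomLift.comp_lift_id_left' p Y (η s).1 s.hom (π s)
  · have h : (η s).1 ≫ k f = (η t).1 := congrArg Subtype.val (hη f)
    rw [Category.assoc, ← hkπ f, ← Category.assoc, h]

/-- Morphisms between cones. -/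
theorem exists_cone_hom (hH : Hyp.{v₁, v₂, v₃, u₁, u₂, u₃} φ) {H : C ⥤ F} (hw : H ⋙ p = φ) {Y Y' : D}
    (g : Y ⟶ Y') (c : Cone (φ := φ) p H Y) (c' : Cone (φ := φ) p H Y') :
    ∃ x : c.pt ⟶ c'.pt, p.IsHomLift g x ∧ ∀ s : StructuredArrow Y' φ,
      x ≫ c'.ε s = c.ε (StructuredArrow.mk (g ≫ s.hom)) := by
  haveI := hH.connected Y'
  obtain ⟨s₀⟩ := (hH Y').1
  haveI := c'.lift s₀
  haveI : p.IsHomLift (g ≫ s₀.hom) (c.ε (StructuredArrow.mk (g ≫ s₀.hom))) :=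
    c.lift (StructuredArrow.mk (g ≫ s₀.hom))
  obtain ⟨x, hx, hxe⟩ := lift_exists p s₀.hom (c'.ε s₀) g (g ≫ s₀.hom) rfl
    (c.ε (StructuredArrow.mk (g ≫ s₀.hom)))
  refine ⟨x, hx, fun s => ?_⟩
  refine induct_on_objects {s | x ≫ c'.ε s = c.ε (StructuredArrow.mk (g ≫ s.hom))} hxe ?_ s
  intro a b f
  let f' : StructuredArrow.mk (g ≫ a.hom) ⟶ StructuredArrow.mk (g ≫ b.hom) :=
    StructuredArrow.homMk f.right (by simp [StructuredArrow.w f])
  have hb : c.ε (StructuredArrow.mk (g ≫ a.hom)) ≫ H.map f.right =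
      c.ε (StructuredArrow.mk (g ≫ b.hom)) := c.nat f'
  simp only [Set.mem_setOf_eq]
  constructor
  · intro h
    rw [← c'.nat f, ← Category.assoc, h, hb]
  · intro h
    haveI := c'.lift a
    haveI := c.lift (StructuredArrow.mk (g ≫ a.hom))
    haveI hl : p.IsHomLift (φ.map f.right) (H.map f.right) := by
      subst hw; exact IsHomLift.map (H.map f.right)
    haveI : p.IsHomLift (g ≫ a.hom) (c.ε (StructuredArrow.mk (g ≫ a.hom))) :=
      c.lift (StructuredArrow.mk (g ≫ a.hom))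
    refine lift_ext p (φ.map f.right) (H.map f.right) (g ≫ a.hom) _ _ ?_
    rw [Category.assoc, c'.nat f, h, hb]

theorem cone_hom_ext (hH : Hyp.{v₁, v₂, v₃, u₁, u₂, u₃} φ) {H : C ⥤ F} {Y Y' : D} {g : Y ⟶ Y'}
    {c : Cone (φ := φ) p H Y} {c' : Cone (φ := φ) p H Y'} {x y : c.pt ⟶ c'.pt} [p.IsHomLift g x]
    [p.IsHomLift g y] (hxy : ∀ s, x ≫ c'.ε s = y ≫ c'.ε s) : x = y := by
  obtain ⟨s⟩ := (hH Y').1
  haveI := c'.lift s
  exact lift_ext p s.hom (c'.ε s) g x y (hxy s)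

theorem isHomLift_section {G : D ⥤ F} (hG : G ⋙ p = 𝟭 D) {R S : D} (f : R ⟶ S) :
    p.IsHomLift f (G.map f) := by
  refine IsHomLift.of_fac' p f (G.map f) (Functor.congr_obj hG R) (Functor.congr_obj hG S) ?_
  exact Functor.congr_hom hG f

theorem faithful_aux (hH : Hyp.{v₁, v₂, v₃, u₁, u₂, u₃} φ) {G G' : D ⥤ F} (hG' : G' ⋙ p = 𝟭 D)
    (α β : G ⟶ G') (hα : ∀ Y, p.IsHomLift (𝟙 Y) (α.app Y)) (hβ : ∀ Y, p.IsHomLift (𝟙 Y) (β.app Y))
    (h : ∀ X, α.app (φ.obj X) = β.app (φ.obj X)) : α = β := by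
  refine NatTrans.ext (funext fun Y => ?_)
  obtain ⟨s⟩ := (hH Y).1
  haveI := isHomLift_section hG' s.hom
  haveI := hα Y
  haveI := hβ Y
  refine lift_ext p s.hom (G'.map s.hom) (𝟙 Y) _ _ ?_
  rw [← α.naturality, ← β.naturality, h]

theorem full_aux (hH : Hyp.{v₁, v₂, v₃, u₁, u₂, u₃} φ) {G G' : D ⥤ F} (hG₀ : G ⋙ p = 𝟭 D)
    (hG₀' : G' ⋙ p = 𝟭 D) (γ : φ ⋙ G ⟶ φ ⋙ G') (hγl : ∀ X, p.IsHomLift (𝟙 (φ.obj X)) (γ.app X)) :
    ∃ δ : G ⟶ G', (∀ Y, p.IsHomLift (𝟙 Y) (δ.app Y)) ∧ ∀ X, δ.app (φ.obj X) = γ.app X := by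
  have hG : ∀ {R S : D} (f : R ⟶ S), p.IsHomLift f (G.map f) := isHomLift_section hG₀
  have hG' : ∀ {R S : D} (f : R ⟶ S), p.IsHomLift f (G'.map f) := isHomLift_section hG₀'
  let γa : ∀ X : C, G.obj (φ.obj X) ⟶ G'.obj (φ.obj X) := fun X => γ.app X
  have hγn : ∀ {X X' : C} (f : X ⟶ X'), G.map (φ.map f) ≫ γa X' = γa X ≫ G'.map (φ.map f) :=
    fun f => γ.naturality f
  have hex : ∀ Y : D, ∃ d : G.obj Y ⟶ G'.obj Y, p.IsHomLift (𝟙 Y) d ∧
      ∀ s : StructuredArrow Y φ, d ≫ G'.map s.hom = G.map s.hom ≫ γa s.right := by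
    intro Y
    haveI := hH.connected Y
    obtain ⟨s₀⟩ := (hH Y).1
    haveI := hG' s₀.hom
    haveI := hG s₀.hom
    haveI : p.IsHomLift (𝟙 (φ.obj s₀.right)) (γa s₀.right) := hγl s₀.right
    obtain ⟨d, hd, hde⟩ := lift_exists p s₀.hom (G'.map s₀.hom) (𝟙 Y) (s₀.hom)
      (Category.id_comp _).symm (G.map s₀.hom ≫ γa s₀.right)
    refine ⟨d, hd, fun s => induct_on_objects
      {s : StructuredArrow Y φ | d ≫ G'.map s.hom = G.map s.hom ≫ γa s.right} hde ?_ s⟩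
    intro a b f
    simp only [Set.mem_setOf_eq]
    have hb : (G.map a.hom ≫ γa a.right) ≫ G'.map (φ.map f.right) = G.map b.hom ≫ γa b.right := by
      rw [Category.assoc, ← hγn f.right, ← Category.assoc, ← G.map_comp, StructuredArrow.w f]
    constructor
    · intro h
      rw [← hb, ← h, Category.assoc, ← G'.map_comp, StructuredArrow.w f]
    · intro h
      haveI := hG' (φ.map f.right)
      haveI := hG a.hom
      haveI := hG' a.hom
      haveI : p.IsHomLift (𝟙 (φ.obj a.right)) (γa a.right) := hγl a.right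
      haveI : p.IsHomLift a.hom (d ≫ G'.map a.hom) :=
        IsHomLift.comp_lift_id_left' p Y d a.hom (G'.map a.hom)
      refine lift_ext p (φ.map f.right) (G'.map (φ.map f.right)) a.hom _ _ ?_
      rw [hb, Category.assoc, ← G'.map_comp, StructuredArrow.w f, h]
  choose d hd hde using hex
  refine ⟨{ app := d, naturality := fun Y Y' g => ?_ }, hd, fun X => ?_⟩
  · obtain ⟨s⟩ := (hH Y').1
    haveI := hG' s.hom
    haveI := hG g
    haveI := hG' g
    haveI := hd Y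
    haveI := hd Y'
    refine lift_ext p s.hom (G'.map s.hom) g (G.map g ≫ d Y') (d Y ≫ G'.map g) ?_
    rw [Category.assoc, hde, Category.assoc, ← G'.map_comp, ← Category.assoc, ← G.map_comp]
    exact (hde Y (StructuredArrow.mk (g ≫ s.hom))).symm
  · have h := hde (φ.obj X) (StructuredArrow.mk (𝟙 (φ.obj X)))
    simpa [γa] using h

theorem ess_aux (hH : Hyp.{v₁, v₂, v₃, u₁, u₂, u₃} φ) (H : C ⥤ F) (hw : H ⋙ p = φ) :
    ∃ (G : D ⥤ F) (_ : G ⋙ p = 𝟭 D) (e : φ ⋙ G ≅ H),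
      ∀ X, p.IsHomLift (𝟙 (φ.obj X)) (e.hom.app X) := by
  let c : ∀ Y, Cone (φ := φ) p H Y := fun Y => (exists_cone hH H hw Y).some
  choose x hx hxe using fun (Y Y' : D) (g : Y ⟶ Y') => exists_cone_hom hH hw g (c Y) (c Y')
  let G : D ⥤ F :=
    { obj := fun Y => (c Y).pt
      map := fun {Y Y'} g => x Y Y' g
      map_id := fun Y => by
        haveI : p.IsHomLift (𝟙 Y) (𝟙 (c Y).pt) := IsHomLift.id (c Y).hpt
        haveI := hx Y Y (𝟙 Y)
        refine cone_hom_ext (g := 𝟙 Y) hH fun s => ?_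
        rw [hxe, Category.id_comp]
        congr 1
        all_goals first | exact (StructuredArrow.eq_mk s).symm | simp [← StructuredArrow.eq_mk]
      map_comp := fun {Y Y' Y''} g g' => by
        haveI := hx Y Y' g
        haveI := hx Y' Y'' g'
        haveI := hx Y Y'' (g ≫ g')
        refine cone_hom_ext (g := g ≫ g') hH fun s => ?_
        rw [hxe, Category.assoc, Category.assoc, hxe, hxe]
        simp }
  have hiso : ∀ X, IsIso ((c (φ.obj X)).ε (StructuredArrow.mk (𝟙 (φ.obj X)))) := fun X => by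
    haveI : p.IsHomLift (𝟙 (φ.obj X)) ((c (φ.obj X)).ε (StructuredArrow.mk (𝟙 (φ.obj X)))) :=
      (c (φ.obj X)).lift (StructuredArrow.mk (𝟙 (φ.obj X)))
    haveI := stronglyCartesian p (𝟙 (φ.obj X)) ((c (φ.obj X)).ε (StructuredArrow.mk (𝟙 (φ.obj X))))
    exact IsStronglyCartesian.isIso_of_base_isIso p (𝟙 (φ.obj X)) _
  have hG : G ⋙ p = 𝟭 D := CategoryTheory.Functor.ext (fun Y => (c Y).hpt) (fun Y Y' g => by
    haveI := hx Y Y' g
    exact IsHomLift.fac' p g (x Y Y' g))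
  refine ⟨G, hG,
    NatIso.ofComponents (fun X => @asIso _ _ _ _
      ((c (φ.obj X)).ε (StructuredArrow.mk (𝟙 (φ.obj X)))) (hiso X)) (fun {X X'} f => ?_), fun X => ?_⟩
  · show x _ _ (φ.map f) ≫ (c (φ.obj X')).ε (StructuredArrow.mk (𝟙 _)) =
      (c (φ.obj X)).ε (StructuredArrow.mk (𝟙 _)) ≫ H.map f
    rw [hxe]
    exact ((c (φ.obj X)).nat (StructuredArrow.homMk (f := StructuredArrow.mk (𝟙 (φ.obj X)))
      (f' := StructuredArrow.mk (φ.map f ≫ 𝟙 (φ.obj X'))) f (by simp))).symm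
  · exact (c (φ.obj X)).lift (StructuredArrow.mk (𝟙 (φ.obj X)))

theorem main (hH : Hyp.{v₁, v₂, v₃, u₁, u₂, u₃} φ) :
    (Stk.restr (FibCat.toSelf (BasedCategory.ofFunctor φ)) (BasedCategory.ofFunctor p)).IsEquivalence where
  faithful := ⟨fun {G G'} α β h => by
    exact BasedNatTrans.homCategory.ext _ _ (faithful_aux (p := p) (G := G.toFunctor) (G' := G'.toFunctor) hH G'.w
      α.toNatTrans β.toNatTrans α.isHomLift' β.isHomLift'
      fun X => congrArg (fun γ => γ.toNatTrans.app X) h)⟩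
  full := ⟨fun {G G'} γ => by
    obtain ⟨δ, hδ, hδγ⟩ := full_aux (p := p) (G := G.toFunctor) (G' := G'.toFunctor) hH G.w G'.w
      γ.toNatTrans γ.isHomLift'
    exact ⟨⟨δ, hδ⟩, BasedNatTrans.homCategory.ext _ _ (NatTrans.ext (funext hδγ))⟩⟩
  essSurj := ⟨fun H => by
    obtain ⟨G, hG, e, he⟩ := ess_aux (p := p) hH H.toFunctor H.w
    exact ⟨⟨G, hG⟩, ⟨BasedNatIso.mkNatIso e he⟩⟩⟩

end SectRestrLib
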